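import Groth.Prelude.Def_W4c2invhilbsl2
import Mathlib.LinearAlgebra.Dimension.Constructions
import Mathlib.LinearAlgebra.Dimension.Finite
import Mathlib.Algebra.BigOperators.Fin
import Mathlib.Tactic.LinearCombination

/-!
# Weight pieces spanned by monomials
-/

set_option autoImplicit false

namespace Groth.Agent.InvHilb

open MvPolynomial

variable {σ k M : Type*}

/-- A weighted homogeneous polynomial whose monomials are all divisible by given monomials. -/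
theorem exists_decomp [CommRing k] [AddCancelCommMonoid M] {ι : Type*} [Fintype ι] (w : σ → M)
    (g : ι → σ →₀ ℕ) (μ : ι → M) (ν : M) (hμ : ∀ j, μ j + Finsupp.weight w (g j) = ν)
    {f : MvPolynomial σ k} (hf : f ∈ weightedHomogeneousSubmodule k w ν)
    (h : ∀ d : σ →₀ ℕ, Finsupp.weight w d = ν → ∃ j, g j ≤ d) :
    ∃ a : ι → MvPolynomial σ k, (∀ j, a j ∈ weightedHomogeneousSubmodule k w (μ j)) ∧
      f = ∑ j, a j * monomial (g j) 1 := by
  classical
  have hd : ∀ d : f.support, Finsupp.weight w (d : σ →₀ ℕ) = ν := fun d =>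
    hf (mem_support_iff.1 d.2)
  choose ch hch using fun d : f.support => h d (hd d)
  refine ⟨fun j => ∑ d ∈ Finset.univ.filter (ch · = j), monomial ((d : σ →₀ ℕ) - g j) (coeff d f),
    fun j => Submodule.sum_mem _ fun d hdj => ?_, ?_⟩
  · obtain rfl := (Finset.mem_filter.1 hdj).2
    refine isWeightedHomogeneous_monomial _ _ _ (add_right_cancel (b := Finsupp.weight w (g (ch d))) ?_)
    rw [← map_add, tsub_add_cancel_of_le (hch d), hd d, hμ]
  · simp only [Finset.sum_mul]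
    conv_lhs => rw [f.as_sum, ← Finset.sum_coe_sort, ← Finset.sum_fiberwise _ ch]
    refine Finset.sum_congr rfl fun j _ => Finset.sum_congr rfl fun d hdj => ?_
    obtain rfl := (Finset.mem_filter.1 hdj).2
    rw [monomial_mul, tsub_add_cancel_of_le (hch d), mul_one]

/-- A piece is at most one dimensional if all monomials are multiples of one element. -/
theorem rank_piece_le_one [Field k] [AddCommMonoid M] (w : σ → M) (I : Ideal (MvPolynomial σ k)) (ν : M)
    (h : ∃ v, ∀ d : σ →₀ ℕ, Finsupp.weight w d = ν →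
      ∃ c : k, c • v = Ideal.Quotient.mkₐ k I (monomial d 1)) :
    Module.rank k (W4c2invhilbsl2.piece k w I ν) ≤ 1 := by
  obtain ⟨v, hv⟩ := h
  refine (Submodule.rank_mono (t := Submodule.span k {v}) ?_).trans ((rank_span_le _).trans (by simp))
  rintro _ ⟨f, hf, rfl⟩
  rw [AlgHom.toLinearMap_apply, f.as_sum, map_sum]
  refine Submodule.sum_mem _ fun d hd => ?_
  obtain ⟨c, hc⟩ := hv d (hf (mem_support_iff.1 hd))
  rw [show monomial d (coeff d f) = coeff d f • monomial d (1 : k) by rw [smul_monomial, smul_eq_mul, mul_one],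
    map_smul]
  exact Submodule.smul_mem _ _ (Submodule.mem_span_singleton.2 ⟨c, hc⟩)

/-- A piece is at most one dimensional if any two monomials are proportional. -/
theorem rank_piece_le_one' [Field k] [AddCommMonoid M] (w : σ → M) (I : Ideal (MvPolynomial σ k)) (ν : M)
    (h : ∀ d d' : σ →₀ ℕ, Finsupp.weight w d = ν → Finsupp.weight w d' = ν → ∃ c : k,
      c • Ideal.Quotient.mkₐ k I (monomial d 1) = Ideal.Quotient.mkₐ k I (monomial d' 1) ∨
      c • Ideal.Quotient.mkₐ k I (monomial d' 1) = Ideal.Quotient.mkₐ k I (monomial d 1)) :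
    Module.rank k (W4c2invhilbsl2.piece k w I ν) ≤ 1 := by
  refine rank_piece_le_one w I ν ?_
  by_cases h0 : ∀ d : σ →₀ ℕ, Finsupp.weight w d = ν → Ideal.Quotient.mkₐ k I (monomial d 1) = 0
  · exact ⟨0, fun d hd => ⟨0, by rw [h0 d hd, smul_zero]⟩⟩
  · push Not at h0
    obtain ⟨d₀, hd₀, hne⟩ := h0
    refine ⟨Ideal.Quotient.mkₐ k I (monomial d₀ 1), fun d hd => ?_⟩
    obtain ⟨c, hc | hc⟩ := h d₀ d hd₀ hd
    · exact ⟨c, hc⟩
    · have hc0 : c ≠ 0 := by rintro rfl; exact hne (by rw [← hc, zero_smul])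
      exact ⟨c⁻¹, by rw [← hc, smul_smul, inv_mul_cancel₀ hc0, one_smul]⟩

theorem intCast_eq_iff {m : ℕ} (a b : ℤ) : (a : ZMod m) = b ↔ ∃ x : ℤ, a - b = (m : ℤ) * x := by
  rw [eq_comm, ZMod.intCast_eq_intCast_iff_dvd_sub, dvd_iff_exists_eq_mul_right]

theorem weight_wt3 (p q m : ℕ) (d : Fin 3 →₀ ℕ) :
    Finsupp.weight (W4c2invhilbsl2.wt3 p q m) d =
      (((d 0 : ℤ) - p * d 1 + q * d 2), (((d 2 : ℤ) - d 1 : ℤ) : ZMod m)) := by
  rw [Finsupp.weight_apply, Finsupp.sum_fintype _ _ (by simp), Fin.sum_univ_three]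
  ext <;> simp [W4c2invhilbsl2.wt3] <;> ring

theorem weight_wt5 (p q m : ℕ) (d : Fin 5 →₀ ℕ) :
    Finsupp.weight (W4c2invhilbsl2.wt5 p q m) d =
      (((d 0 : ℤ) - p * (d 1 + d 2) + q * (d 3 + d 4)),
        (((d 3 : ℤ) + d 4 - d 1 - d 2 : ℤ) : ZMod m)) := by
  rw [Finsupp.weight_apply, Finsupp.sum_fintype _ _ (by simp), Fin.sum_univ_five]
  ext <;> simp [W4c2invhilbsl2.wt5] <;> ring

theorem map_monomial3 [CommRing k] {S : Type*} [CommRing S] (φ : MvPolynomial (Fin 3) k →+* S)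
    (d : Fin 3 →₀ ℕ) :
    φ (monomial d 1) = φ (X 0) ^ d 0 * φ (X 1) ^ d 1 * φ (X 2) ^ d 2 := by
  rw [monomial_eq, C_1, one_mul, Finsupp.prod_fintype _ _ (fun _ => pow_zero _), Fin.prod_univ_three]
  simp only [map_mul, map_pow]

theorem map_monomial5 [CommRing k] {S : Type*} [CommRing S] (φ : MvPolynomial (Fin 5) k →+* S)
    (d : Fin 5 →₀ ℕ) :
    φ (monomial d 1) = φ (X 0) ^ d 0 * φ (X 1) ^ d 1 * φ (X 2) ^ d 2 * φ (X 3) ^ d 3 * φ (X 4) ^ d 4 := by
  rw [monomial_eq, C_1, one_mul, Finsupp.prod_fintype _ _ (fun _ => pow_zero _), Fin.prod_univ_five]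
  simp only [map_mul, map_pow]

theorem idealI_proportional [CommRing k] (p q m : ℕ) (hpq : p < q) (s : k) (d d' : Fin 5 →₀ ℕ)
    (h : Finsupp.weight (W4c2invhilbsl2.wt5 p q m) d = Finsupp.weight (W4c2invhilbsl2.wt5 p q m) d') :
    ∃ c : k, c • Ideal.Quotient.mkₐ k (W4c2invhilbsl2.idealI k p q m s) (monomial d 1) =
        Ideal.Quotient.mkₐ k (W4c2invhilbsl2.idealI k p q m s) (monomial d' 1) ∨
      c • Ideal.Quotient.mkₐ k (W4c2invhilbsl2.idealI k p q m s) (monomial d' 1) =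
        Ideal.Quotient.mkₐ k (W4c2invhilbsl2.idealI k p q m s) (monomial d 1) := by
  set φ := Ideal.Quotient.mkₐ k (W4c2invhilbsl2.idealI k p q m s) with hφ
  have hgen : ∀ x ∈ ({X 0 ^ (q - p) - X 1 * X 4, X 2, X 3, C s - X 0 ^ (m * p) * X 1 ^ m} :
      Set (MvPolynomial (Fin 5) k)), φ x = 0 := fun x hx =>
    Ideal.Quotient.eq_zero_iff_mem.2 (Ideal.subset_span hx)
  have h14 : φ (X 0) ^ (q - p) = φ (X 1) * φ (X 4) := by
    rw [← map_pow, ← map_mul, ← sub_eq_zero, ← map_sub]; exact hgen _ (Or.inl rfl)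
  have h2 : φ (X 2) = 0 := hgen _ (Or.inr (Or.inl rfl))
  have h3 : φ (X 3) = 0 := hgen _ (Or.inr (Or.inr (Or.inl rfl)))
  have hs : φ (X 0) ^ (m * p) * φ (X 1) ^ m = algebraMap k _ s := by
    rw [← map_pow, ← map_pow, ← map_mul, eq_comm, ← φ.commutes, ← sub_eq_zero, ← map_sub]
    exact hgen _ (Or.inr (Or.inr (Or.inr rfl)))
  by_cases hd : d 2 = 0 ∧ d 3 = 0
  swap
  · refine ⟨0, Or.inr ?_⟩
    have e : φ (monomial d 1) = φ.toRingHom (monomial d 1) := rfl
    rw [zero_smul, e, map_monomial5]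
    rcases not_and_or.1 hd with h' | h' <;> simp [h2, h3, zero_pow h']
  by_cases hd' : d' 2 = 0 ∧ d' 3 = 0
  swap
  · refine ⟨0, Or.inl ?_⟩
    have e : φ (monomial d' 1) = φ.toRingHom (monomial d' 1) := rfl
    rw [zero_smul, e, map_monomial5]
    rcases not_and_or.1 hd' with h' | h' <;> simp [h2, h3, zero_pow h']
  obtain ⟨e2, e3⟩ := hd
  obtain ⟨e2', e3'⟩ := hd'
  simp only [weight_wt5, Prod.mk.injEq, e2, e3, e2', e3', Nat.cast_zero, add_zero, zero_add, sub_zero] at h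
  obtain ⟨x, hx⟩ := (intCast_eq_iff _ _).1 h.2
  -- the difference is `i • (q - p, -1, -1) + x • (m p, m, 0)`
  have main : ∀ (a b : Fin 5 →₀ ℕ) (y : ℕ) (i : ℤ), a 2 = 0 → a 3 = 0 → b 2 = 0 → b 3 = 0 →
      (b 0 : ℤ) = a 0 + y * (m * p : ℕ) + i * (q - p : ℕ) → (b 1 : ℤ) = a 1 + y * m - i →
      (b 4 : ℤ) = a 4 - i → (s ^ y) • φ (monomial a 1) = φ (monomial b 1) := by
    intro a b y i a2 a3 b2 b3 h0 h1 h4
    have ea : φ (monomial a 1) = φ.toRingHom (monomial a 1) := rfl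
    have eb : φ (monomial b 1) = φ.toRingHom (monomial b 1) := rfl
    rw [← map_smul φ, smul_eq_C_mul, map_mul, show φ (C (s ^ y)) = algebraMap k _ (s ^ y) from φ.commutes _, map_pow, ← hs, mul_pow, ← pow_mul, ← pow_mul, ea, eb, map_monomial5,
      map_monomial5, a2, a3, b2, b3]
    simp only [pow_zero, mul_one, AlgHom.toRingHom_eq_coe, RingHom.coe_coe]
    rw [Nat.cast_mul] at h0
    rcases le_total 0 i with hi | hi
    · lift i to ℕ using hi
      have g0 : b 0 = m * p * y + a 0 + (q - p) * i := by zify; linear_combination h0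
      have g1 : a 1 + m * y = b 1 + i := by zify; linear_combination -h1
      have g4 : a 4 = b 4 + i := by omega
      calc _ = φ (X 0) ^ (m * p * y + a 0) * φ (X 1) ^ (a 1 + m * y) * φ (X 4) ^ a 4 := by ring
        _ = _ := by rw [g0, g1, g4, pow_add _ _ ((q - p) * i), pow_mul _ (q - p), h14]; ring
    · obtain ⟨n, rfl⟩ : ∃ n : ℕ, i = -n := ⟨(-i).toNat, by omega⟩
      have g0 : m * p * y + a 0 = b 0 + (q - p) * n := by zify; linear_combination -h0
      have g1 : b 1 = a 1 + m * y + n := by zify; linear_combination h1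
      have g4 : b 4 = a 4 + n := by omega
      calc _ = φ (X 0) ^ (m * p * y + a 0) * φ (X 1) ^ (a 1 + m * y) * φ (X 4) ^ a 4 := by ring
        _ = _ := by rw [g0, g1, g4, pow_add, pow_mul _ (q - p), h14]; ring
  have hD : ((q - p : ℕ) : ℤ) = q - p := by omega
  rcases le_total 0 x with hx0 | hx0
  · lift x to ℕ using hx0
    refine ⟨s ^ x, Or.inl (main d d' x (d 4 - d' 4) e2 e3 e2' e3' ?_ ?_ (by ring))⟩
    · rw [hD]; push_cast
      linear_combination -h.1 + (p : ℤ) * hx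
    · linear_combination hx
  · obtain ⟨n, rfl⟩ : ∃ n : ℕ, x = -n := ⟨(-x).toNat, by omega⟩
    refine ⟨s ^ n, Or.inr (main d' d n (d' 4 - d 4) e2' e3' e2 e3 ?_ ?_ (by ring))⟩
    · rw [hD]; push_cast
      linear_combination h.1 - (p : ℤ) * hx
    · linear_combination -hx

theorem idealJ_proportional [CommRing k] (p q m : ℕ) (hpq : p < q) (hcop : Nat.Coprime p q) (hm : 0 < m)
    (s : k) (d d' : Fin 5 →₀ ℕ)
    (h : Finsupp.weight (W4c2invhilbsl2.wt5 p q m) d = Finsupp.weight (W4c2invhilbsl2.wt5 p q m) d') :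
    ∃ c : k, c • Ideal.Quotient.mkₐ k (W4c2invhilbsl2.idealJ k p q m s) (monomial d 1) =
        Ideal.Quotient.mkₐ k (W4c2invhilbsl2.idealJ k p q m s) (monomial d' 1) ∨
      c • Ideal.Quotient.mkₐ k (W4c2invhilbsl2.idealJ k p q m s) (monomial d' 1) =
        Ideal.Quotient.mkₐ k (W4c2invhilbsl2.idealJ k p q m s) (monomial d 1) := by
  set φ := Ideal.Quotient.mkₐ k (W4c2invhilbsl2.idealJ k p q m s) with hφ
  obtain ⟨g, a, b, hg, hab, hm', hD⟩ := Nat.exists_coprime' (Nat.gcd_pos_of_pos_left (q - p) hm)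
  have hga : m / Nat.gcd m (q - p) = a := by
    conv_lhs => rw [hm', hD, Nat.gcd_mul_right, hab.gcd_eq_one, one_mul]
    exact Nat.mul_div_cancel a hg
  have hgg : Nat.gcd m (q - p) = g := by rw [hm', hD, Nat.gcd_mul_right, hab.gcd_eq_one, one_mul]
  have hgen : ∀ x ∈ ({X 0 ^ Nat.gcd m (q - p), X 2, X 4,
      C s - X 1 ^ (m / Nat.gcd m (q - p) * q) * X 3 ^ (m / Nat.gcd m (q - p) * p)} :
      Set (MvPolynomial (Fin 5) k)), φ x = 0 := fun x hx =>
    Ideal.Quotient.eq_zero_iff_mem.2 (Ideal.subset_span hx)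
  have h0 : φ (X 0) ^ g = 0 := by rw [← map_pow, ← hgg]; exact hgen _ (Or.inl rfl)
  have h2 : φ (X 2) = 0 := hgen _ (Or.inr (Or.inl rfl))
  have h4 : φ (X 4) = 0 := hgen _ (Or.inr (Or.inr (Or.inl rfl)))
  have hs : φ (X 1) ^ (a * q) * φ (X 3) ^ (a * p) = algebraMap k _ s := by
    rw [← map_pow, ← map_pow, ← map_mul, eq_comm, ← φ.commutes, ← sub_eq_zero, ← map_sub, ← hga]
    exact hgen _ (Or.inr (Or.inr (Or.inr rfl)))
  have hz : ∀ a : Fin 5 →₀ ℕ, ¬(a 2 = 0 ∧ a 4 = 0 ∧ a 0 < g) → φ (monomial a 1) = 0 := fun a ha => by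
    have e : φ (monomial a 1) = φ.toRingHom (monomial a 1) := rfl
    rw [e, map_monomial5]
    simp only [AlgHom.toRingHom_eq_coe, RingHom.coe_coe]
    rcases not_and_or.1 ha with h' | h'
    · simp [h2, zero_pow h']
    rcases not_and_or.1 h' with h' | h'
    · simp [h4, zero_pow h']
    · simp [pow_eq_zero_of_le (not_lt.1 h') h0]
  by_cases hd : d 2 = 0 ∧ d 4 = 0 ∧ d 0 < g
  swap
  · exact ⟨0, Or.inr (by rw [zero_smul, hz d hd])⟩
  by_cases hd' : d' 2 = 0 ∧ d' 4 = 0 ∧ d' 0 < g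
  swap
  · exact ⟨0, Or.inl (by rw [zero_smul, hz d' hd'])⟩
  obtain ⟨e2, e4, e0⟩ := hd
  obtain ⟨e2', e4', e0'⟩ := hd'
  simp only [weight_wt5, Prod.mk.injEq, e2, e4, e2', e4', Nat.cast_zero, add_zero, sub_zero] at h
  obtain ⟨x, hx⟩ := (intCast_eq_iff _ _).1 h.2
  have hm'' : (m : ℤ) = a * g := by exact_mod_cast hm'
  have hD' : (q : ℤ) - p = b * g := by
    rw [← Nat.cast_sub hpq.le]; exact_mod_cast hD
  have e00 : (d 0 : ℤ) = d' 0 := by
    have hdiv : (g : ℤ) ∣ (d 0 : ℤ) - d' 0 :=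
      ⟨-((b : ℤ) * ((d 1 : ℤ) - d' 1) + q * a * x), by linear_combination h.1 - ((d 1 : ℤ) - d' 1) * hD' - (q : ℤ) * hx - (q : ℤ) * x * hm''⟩
    obtain ⟨z, hz'⟩ := hdiv
    rcases lt_trichotomy z 0 with hz0 | rfl | hz0 <;> nlinarith
  have key : (b : ℤ) * (d 1 - d' 1) = -(q * a : ℤ) * x := by
    apply mul_left_cancel₀ (show (g : ℤ) ≠ 0 by omega)
    linear_combination h.1 - e00 - ((d 1 : ℤ) - d' 1) * hD' - (q : ℤ) * hx - (q : ℤ) * x * hm''
  have hbq : IsCoprime (b : ℤ) (q * a : ℤ) := by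
    refine IsCoprime.mul_right ?_ (Nat.Coprime.isCoprime hab.symm)
    refine Nat.Coprime.isCoprime (Nat.Coprime.coprime_dvd_left ⟨g, hD⟩ ?_)
    rw [Nat.coprime_self_sub_left hpq.le]
    exact hcop
  have main : ∀ (u v : Fin 5 →₀ ℕ) (y : ℕ), u 2 = 0 → u 4 = 0 → v 2 = 0 → v 4 = 0 →
      v 0 = u 0 → v 1 = u 1 + a * q * y → v 3 = u 3 + a * p * y →
      (s ^ y) • φ (monomial u 1) = φ (monomial v 1) := by
    intro u v y u2 u4 v2 v4 g0 g1 g3
    have ea : φ (monomial u 1) = φ.toRingHom (monomial u 1) := rfl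
    have eb : φ (monomial v 1) = φ.toRingHom (monomial v 1) := rfl
    rw [← map_smul φ, smul_eq_C_mul, map_mul, show φ (C (s ^ y)) = algebraMap k _ (s ^ y) from φ.commutes _, map_pow, ← hs, mul_pow, ← pow_mul, ← pow_mul, ea, eb, map_monomial5,
      map_monomial5, u2, u4, v2, v4, g0, g1, g3, pow_add, pow_add]
    simp only [pow_zero, mul_one, AlgHom.toRingHom_eq_coe, RingHom.coe_coe]
    ring
  obtain ⟨y, hy⟩ : (b : ℤ) ∣ x := hbq.dvd_of_dvd_mul_right ⟨-((d 1 : ℤ) - d' 1), by linear_combination key⟩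
  have f1 : (d 1 : ℤ) - d' 1 = -(a * q * y) := by
    rcases Nat.eq_zero_or_pos b with rfl | hb
    · simp at hD'; omega
    apply mul_left_cancel₀ (show (b : ℤ) ≠ 0 by omega)
    linear_combination key - (q : ℤ) * a * hy
  have f3 : (d 3 : ℤ) - d' 3 = -(a * p * y) := by
    linear_combination f1 + hx + (m : ℤ) * hy + (b : ℤ) * y * hm'' - (a : ℤ) * y * hD'
  rcases le_total 0 y with hy0 | hy0
  · lift y to ℕ using hy0
    refine ⟨s ^ y, Or.inl (main d d' y e2 e4 e2' e4' (by omega) ?_ ?_)⟩ <;> zify <;> linarith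
  · obtain ⟨n, rfl⟩ : ∃ n : ℕ, y = -n := ⟨(-y).toNat, by omega⟩
    refine ⟨s ^ n, Or.inr (main d' d n e2' e4' e2 e4 (by omega) ?_ ?_)⟩ <;> zify <;> linarith

end Groth.Agent.InvHilb
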