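import Groth.Agent.InvHilb.HJ
import Groth.Agent.InvHilb.Monomial

/-!
# Generators and ranks of weight pieces, non-toric case
-/

set_option autoImplicit false

namespace Groth.Agent.InvHilb

open MvPolynomial W4c2invhilbsl2

variable {k : Type*}

/-- A monomial of weight `(n i, 0)` in the three variables. -/
theorem Setup.dvd_cases {p q m : ℕ} {c : List ℤ} (S : Setup p q m c) {i : ℕ} (h1 : 1 ≤ i) (hi : i ≤ c.length)
    {d0 d1 d2 x : ℤ} (hd0 : 0 ≤ d0) (hd1 : 0 ≤ d1) (hd2 : 0 ≤ d2)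
    (hw : d0 - p * d1 + q * d2 = nN p q m c i) (hx : d2 - d1 = m * x) :
    nN p q m c i ≤ d0 ∨ eE p q m c i ≤ d1 ∧ lL p q m c i ≤ d2 := by
  rcases le_or_gt (nN p q m c i) d0 with h | h
  · exact Or.inl h
  have hD : (0 : ℤ) < (q : ℤ) - p := by have := S.hpq; omega
  have hm : (0 : ℤ) < m := by exact_mod_cast S.hm
  have hn : nN p q m c i < nN p q m c (i - 1) := by
    have h3 := S.nN_lt (show i - 1 ≤ c.length by omega)
    rwa [Nat.sub_add_cancel h1] at h3
  have e : ((q : ℤ) - p) * d2 - p * m * (-x) = nN p q m c i - d0 := by linear_combination hw - (p : ℤ) * hx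
  have hx0 : 0 < -x := by
    by_contra hx0
    have h2 : (0 : ℤ) ≤ p * m * x := mul_nonneg (by positivity) (by omega)
    have h3 := S.nN_le_D (show i - 1 ≤ c.length + 1 by omega)
    rcases eq_or_lt_of_le hd2 with h4 | h4
    · subst h4
      nlinarith
    · nlinarith [mul_le_mul_of_nonneg_left (show (1 : ℤ) ≤ d2 by omega) hD.le]
  obtain ⟨-, hl, he⟩ := S.key h1 hi hx0 (u := d2) (by omega) (by omega)
  exact Or.inr ⟨by linarith, hl⟩

section idealL

variable [CommRing k] {p q m : ℕ} {c : List ℤ} {i : ℕ} {s : k}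

/-- A monomial which survives the straightforward reductions in `k[X] ⧸ idealL`. -/
structure IsNormal (p q m : ℕ) (c : List ℤ) (i : ℕ) (d : Fin 3 →₀ ℕ) : Prop where
  d0_lt : (d 0 : ℤ) < nN p q m c (i - 1)
  not_el : ¬(eE p q m c i ≤ d 1 ∧ lL p q m c i ≤ d 2)
  not_zero_weight : ∀ w : Fin 3 →₀ ℕ, w ≠ 0 → Finsupp.weight (wt3 p q m) w = 0 → ¬w ≤ d

theorem Setup.normal_unique (S : Setup p q m c) (h1 : 1 ≤ i) (hi : i ≤ c.length) {d d' : Fin 3 →₀ ℕ}
    (hd : IsNormal p q m c i d) (hd' : IsNormal p q m c i d')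
    (h : Finsupp.weight (wt3 p q m) d = Finsupp.weight (wt3 p q m) d') : d = d' := by
  have hD : (0 : ℤ) < (q : ℤ) - p := by have := S.hpq; omega
  simp only [weight_wt3, Prod.mk.injEq] at h
  obtain ⟨hw, hmod⟩ := h
  obtain ⟨x, hx⟩ := (intCast_eq_iff _ _).1 hmod
  have hn := S.nN_le_D (show i - 1 ≤ c.length + 1 by omega)
  rcases lt_trichotomy x 0 with hx0 | rfl | hx0
  · exfalso
    -- `d` is `d'` plus `(p m y - D u, u + m y, u)`
    have e : ((q : ℤ) - p) * ((d 2 : ℤ) - d' 2) - p * m * (-x) = (d' 0 : ℤ) - d 0 := by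
      linear_combination hw - (p : ℤ) * hx
    have a := hd.d0_lt
    have b := hd'.d0_lt
    rcases le_or_gt 0 ((d' 0 : ℤ) - d 0) with hs | hs
    · obtain ⟨-, hl, he⟩ := S.key h1 hi (show 0 < -x by omega) (u := (d 2 : ℤ) - d' 2) (by omega) (by omega)
      exact hd.not_el ⟨by linarith, by omega⟩
    · have hu : 0 ≤ (d 2 : ℤ) - d' 2 := by
        have hpm : (0 : ℤ) ≤ p * m * (-x) := mul_nonneg (by positivity) (by omega)
        by_contra hu
        have := mul_le_mul_of_nonneg_left (show (d 2 : ℤ) - d' 2 ≤ -1 by omega) hD.le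
        linarith
      have hu1 : 0 ≤ (d 1 : ℤ) - d' 1 := by
        have : (0 : ℤ) ≤ m * (-x) := mul_nonneg (Int.natCast_nonneg _) (by omega)
        linarith
      refine hd.not_zero_weight (Finsupp.equivFunOnFinite.symm
        ![d 0 - d' 0, d 1 - d' 1, d 2 - d' 2]) ?_ ?_ ?_
      · intro hz
        have := DFunLike.congr_fun hz 0
        simp at this
        omega
      · have g0 : ((d 0 - d' 0 : ℕ) : ℤ) = (d 0 : ℤ) - d' 0 := by omega
        have g1 : ((d 1 - d' 1 : ℕ) : ℤ) = (d 1 : ℤ) - d' 1 := by omega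
        have g2 : ((d 2 - d' 2 : ℕ) : ℤ) = (d 2 : ℤ) - d' 2 := by omega
        rw [weight_wt3]
        simp only [Finsupp.equivFunOnFinite_symm_apply_apply, Matrix.cons_val_zero, Matrix.cons_val_one,
          Matrix.cons_val, g0, g1, g2, Prod.mk_eq_zero]
        refine ⟨by linear_combination hw, ?_⟩
        rw [show (d 2 : ℤ) - d' 2 - ((d 1 : ℤ) - d' 1) = m * x by linear_combination hx, Int.cast_mul,
          Int.cast_natCast, ZMod.natCast_self, zero_mul]
      · intro j
        fin_cases j <;> simp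
  · have e : ((q : ℤ) - p) * ((d 2 : ℤ) - d' 2) = (d' 0 : ℤ) - d 0 := by linear_combination hw - (p : ℤ) * hx
    have a := hd.d0_lt
    have b := hd'.d0_lt
    have hu : (d 2 : ℤ) - d' 2 = 0 := by
      rcases lt_trichotomy ((d 2 : ℤ) - d' 2) 0 with hu | hu | hu
      · nlinarith
      · exact hu
      · nlinarith
    rw [hu, mul_zero] at e
    ext j
    fin_cases j <;> simp <;> omega
  · exfalso
    have e : ((q : ℤ) - p) * ((d' 2 : ℤ) - d 2) - p * m * x = (d 0 : ℤ) - d' 0 := by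
      linear_combination -hw + (p : ℤ) * hx
    have a := hd.d0_lt
    have b := hd'.d0_lt
    rcases le_or_gt 0 ((d 0 : ℤ) - d' 0) with hs | hs
    · obtain ⟨-, hl, he⟩ := S.key h1 hi hx0 (u := (d' 2 : ℤ) - d 2) (by omega) (by omega)
      exact hd'.not_el ⟨by linarith, by omega⟩
    · have hu : 0 ≤ (d' 2 : ℤ) - d 2 := by
        have hpm : (0 : ℤ) ≤ p * m * x := mul_nonneg (by positivity) (by omega)
        by_contra hu
        have := mul_le_mul_of_nonneg_left (show (d' 2 : ℤ) - d 2 ≤ -1 by omega) hD.le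
        linarith
      have hu1 : 0 ≤ (d' 1 : ℤ) - d 1 := by
        have : (0 : ℤ) ≤ m * x := mul_nonneg (Int.natCast_nonneg _) (by omega)
        linarith
      refine hd'.not_zero_weight (Finsupp.equivFunOnFinite.symm
        ![d' 0 - d 0, d' 1 - d 1, d' 2 - d 2]) ?_ ?_ ?_
      · intro hz
        have := DFunLike.congr_fun hz 0
        simp at this
        omega
      · have g0 : ((d' 0 - d 0 : ℕ) : ℤ) = (d' 0 : ℤ) - d 0 := by omega
        have g1 : ((d' 1 - d 1 : ℕ) : ℤ) = (d' 1 : ℤ) - d 1 := by omega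
        have g2 : ((d' 2 - d 2 : ℕ) : ℤ) = (d' 2 : ℤ) - d 2 := by omega
        rw [weight_wt3]
        simp only [Finsupp.equivFunOnFinite_symm_apply_apply, Matrix.cons_val_zero, Matrix.cons_val_one,
          Matrix.cons_val, g0, g1, g2, Prod.mk_eq_zero]
        refine ⟨by linear_combination -hw, ?_⟩
        rw [show (d' 2 : ℤ) - d 2 - ((d' 1 : ℤ) - d 1) = m * (-x) by linear_combination -hx, Int.cast_mul,
          Int.cast_natCast, ZMod.natCast_self, zero_mul]
      · intro j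
        fin_cases j <;> simp

theorem Setup.exists_normal (S : Setup p q m c) (h1 : 1 ≤ i) (hi : i ≤ c.length) (s : k) :
    ∀ (N : ℕ) (d : Fin 3 →₀ ℕ), d 1 ≤ N →
      Ideal.Quotient.mkₐ k (idealL k p q m c i s) (monomial d 1) = 0 ∨
      ∃ (d' : Fin 3 →₀ ℕ) (a : k), IsNormal p q m c i d' ∧
        Finsupp.weight (wt3 p q m) d' = Finsupp.weight (wt3 p q m) d ∧
        a • Ideal.Quotient.mkₐ k (idealL k p q m c i s) (monomial d' 1) =
          Ideal.Quotient.mkₐ k (idealL k p q m c i s) (monomial d 1) := by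
  intro N
  induction N using Nat.strong_induction_on with
  | _ N IH =>
    intro d hdN
    set φ := Ideal.Quotient.mkₐ k (idealL k p q m c i s) with hφ
    have hmon : ∀ w : Fin 3 →₀ ℕ, φ (monomial w 1) = φ (X 0) ^ w 0 * φ (X 1) ^ w 1 * φ (X 2) ^ w 2 :=
      fun w => map_monomial3 φ.toRingHom w
    have hgen1 : φ (X 0) ^ (nN p q m c (i - 1)).toNat = 0 := by
      rw [← map_pow]
      exact Ideal.Quotient.eq_zero_iff_mem.2 (Ideal.mem_sup_left (Ideal.subset_span (Or.inl rfl)))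
    have hgen2 : φ (X 1) ^ (eE p q m c i).toNat * φ (X 2) ^ (lL p q m c i).toNat =
        algebraMap k _ s * φ (X 0) ^ (nN p q m c i).toNat := by
      rw [← map_pow, ← map_pow, ← map_pow, ← φ.commutes, ← map_mul, ← map_mul, eq_comm, ← sub_eq_zero, ← map_sub]
      exact Ideal.Quotient.eq_zero_iff_mem.2 (Ideal.mem_sup_left (Ideal.subset_span (Or.inr rfl)))
    by_cases h0 : nN p q m c (i - 1) ≤ d 0
    · exact Or.inl (by rw [hmon, pow_eq_zero_of_le (Int.toNat_le.2 h0) hgen1, zero_mul, zero_mul])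
    by_cases hK : ∃ w : Fin 3 →₀ ℕ, w ≠ 0 ∧ Finsupp.weight (wt3 p q m) w = 0 ∧ w ≤ d
    · obtain ⟨w, hw0, hwt, hwd⟩ := hK
      have hwz : φ (monomial w 1) = 0 :=
        Ideal.Quotient.eq_zero_iff_mem.2 (Ideal.mem_sup_right (Ideal.subset_span ⟨w, hw0, hwt, rfl⟩))
      refine Or.inl ?_
      rw [← tsub_add_cancel_of_le hwd, ← mul_one (1 : k), ← monomial_mul, map_mul, hwz, mul_zero]
    by_cases hel : eE p q m c i ≤ d 1 ∧ lL p q m c i ≤ d 2
    · obtain ⟨he, hl⟩ := hel
      have e0 := S.eE_pos h1 hi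
      have l0 := S.lL_pos h1 hi
      have n0 := S.nN_pos hi
      set d₂ : Fin 3 →₀ ℕ := Finsupp.equivFunOnFinite.symm
        ![d 0 + (nN p q m c i).toNat, d 1 - (eE p q m c i).toNat, d 2 - (lL p q m c i).toNat] with hd₂
      have a0 : d₂ 0 = d 0 + (nN p q m c i).toNat := by simp [hd₂]
      have a1 : d₂ 1 = d 1 - (eE p q m c i).toNat := by simp [hd₂]
      have a2 : d₂ 2 = d 2 - (lL p q m c i).toNat := by simp [hd₂]
      have hval : s • φ (monomial d₂ 1) = φ (monomial d 1) := by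
        rw [← map_smul φ, smul_eq_C_mul, map_mul, show φ (C s) = algebraMap k _ s from φ.commutes _, hmon, hmon,
          a0, a1, a2]
        obtain ⟨r1, hr1⟩ := Nat.exists_eq_add_of_le (Int.toNat_le.2 he)
        obtain ⟨r2, hr2⟩ := Nat.exists_eq_add_of_le (Int.toNat_le.2 hl)
        rw [hr1, hr2, Nat.add_sub_cancel_left, Nat.add_sub_cancel_left, pow_add (φ (X 1)), pow_add (φ (X 2)),
          pow_add (φ (X 0))]
        linear_combination -(φ (X 0) ^ d 0 * φ (X 1) ^ r1 * φ (X 2) ^ r2) * hgen2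
      have hwt : Finsupp.weight (wt3 p q m) d₂ = Finsupp.weight (wt3 p q m) d := by
        have g0 : ((d₂ 0 : ℕ) : ℤ) = d 0 + nN p q m c i := by omega
        have g1 : ((d₂ 1 : ℕ) : ℤ) = d 1 - eE p q m c i := by omega
        have g2 : ((d₂ 2 : ℕ) : ℤ) = d 2 - lL p q m c i := by omega
        rw [weight_wt3, weight_wt3, g0, g1, g2]
        refine Prod.ext ?_ ?_
        · simp only [nN]; ring
        · refine (intCast_eq_iff _ _).2 ⟨hjP c i, ?_⟩
          linear_combination eE_eq p q m c i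
      rcases IH (d 1 - (eE p q m c i).toNat) (by omega) d₂ (by omega) with h | ⟨d', a, hn, hw', ha⟩
      · exact Or.inl (by rw [← hval, h, smul_zero])
      · exact Or.inr ⟨d', s * a, hn, hw'.trans hwt, by rw [mul_smul, ha, hval]⟩
    · exact Or.inr ⟨d, 1, ⟨not_le.1 h0, hel, fun w a b h' => hK ⟨w, a, b, h'⟩⟩, rfl, one_smul _ _⟩

end idealL

theorem rank_piece_idealL_le_one [Field k] {p q m : ℕ} {c : List ℤ} (S : Setup p q m c) {i : ℕ} (h1 : 1 ≤ i)
    (hi : i ≤ c.length) (s : k) (ν : ℤ × ZMod m) :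
    Module.rank k (piece k (wt3 p q m) (idealL k p q m c i s) ν) ≤ 1 := by
  refine rank_piece_le_one _ _ ν ?_
  by_cases h : ∃ d₀, IsNormal p q m c i d₀ ∧ Finsupp.weight (wt3 p q m) d₀ = ν
  · obtain ⟨d₀, hn₀, hw₀⟩ := h
    refine ⟨Ideal.Quotient.mkₐ k _ (monomial d₀ 1), fun d hd => ?_⟩
    rcases S.exists_normal h1 hi s (d 1) d le_rfl with h | ⟨d', a, hn, hw, ha⟩
    · exact ⟨0, by rw [zero_smul, h]⟩
    · rw [S.normal_unique h1 hi hn hn₀ (by rw [hw, hd, hw₀])] at ha
      exact ⟨a, ha⟩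
  · refine ⟨0, fun d hd => ⟨0, ?_⟩⟩
    rcases S.exists_normal h1 hi s (d 1) d le_rfl with h' | ⟨d', a, hn, hw, ha⟩
    · rw [zero_smul, h']
    · exact absurd ⟨d', hn, hw.trans hd⟩ h

theorem hypersurface_mem [CommRing k] (p q : ℕ) :
    (X 0 ^ (q - p) - X 1 * X 4 + X 2 * X 3 : MvPolynomial (Fin 5) k) ∈
      Ideal.span {X 0 ^ (q - p) - X 1 * X 4 + X 2 * X 3} :=
  Ideal.mem_span_singleton_self _

theorem generated_q_sub_p_three [CommRing k] {p q : ℕ} (m : ℕ) (hp : 0 < p) (hpq : p < q)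
    {f : MvPolynomial (Fin 3) k}
    (hf : f ∈ weightedHomogeneousSubmodule k (wt3 p q m) ((q : ℤ) - (p : ℤ), (0 : ZMod m))) :
    ∃ a b : MvPolynomial (Fin 3) k, a ∈ weightedHomogeneousSubmodule k (wt3 p q m) 0 ∧
      b ∈ weightedHomogeneousSubmodule k (wt3 p q m) 0 ∧ f = a * X 0 ^ (q - p) + b * (X 1 * X 2) := by
  obtain ⟨a, ha, hfa⟩ := exists_decomp (wt3 p q m)
    ![Finsupp.single 0 (q - p), Finsupp.single 1 1 + Finsupp.single 2 1] (fun _ => 0) _
    (fun j => by
      rw [zero_add, weight_wt3]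
      fin_cases j <;> simp [Nat.cast_sub hpq.le] <;> ring)
    hf fun d hd => by
      simp only [weight_wt3, Prod.mk.injEq] at hd
      by_cases h : 1 ≤ d 1 ∧ 1 ≤ d 2
      · refine ⟨1, fun j => ?_⟩
        fin_cases j <;> simp [h.1, h.2]
      · refine ⟨0, fun j => ?_⟩
        have hD : q - p ≤ d 0 := by
          rcases not_and_or.1 h with h' | h'
          · have e : d 1 = 0 := by omega
            rw [e] at hd
            rcases Nat.eq_zero_or_pos (d 2) with e2 | e2
            · rw [e2] at hd; omega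
            · exfalso
              have := mul_le_mul_of_nonneg_left (show (1 : ℤ) ≤ d 2 by omega) (Int.natCast_nonneg q)
              omega
          · have e : d 2 = 0 := by omega
            rw [e] at hd
            have : (0 : ℤ) ≤ p * d 1 := by positivity
            omega
        fin_cases j <;> simp [hD]
  refine ⟨a 0, a 1, ha 0, ha 1, ?_⟩
  rw [hfa, Fin.sum_univ_two]
  simp [monomial_single_add, ← X_pow_eq_monomial, -Finsupp.single_tsub]

theorem generated_q_sub_p_five [CommRing k] {p q : ℕ} (m : ℕ) (hp : 0 < p) (hpq : p < q)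
    {f : MvPolynomial (Fin 5) k}
    (hf : f ∈ weightedHomogeneousSubmodule k (wt5 p q m) ((q : ℤ) - (p : ℤ), (0 : ZMod m))) :
    ∃ a₁₃ a₁₄ a₂₃ a₂₄ : MvPolynomial (Fin 5) k, a₁₃ ∈ weightedHomogeneousSubmodule k (wt5 p q m) 0 ∧
      a₁₄ ∈ weightedHomogeneousSubmodule k (wt5 p q m) 0 ∧ a₂₃ ∈ weightedHomogeneousSubmodule k (wt5 p q m) 0 ∧
      a₂₄ ∈ weightedHomogeneousSubmodule k (wt5 p q m) 0 ∧
      f - (a₁₃ * (X (1 : Fin 5) * X 3) + a₁₄ * (X (1 : Fin 5) * X 4) + a₂₃ * (X (2 : Fin 5) * X 3) +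
        a₂₄ * (X (2 : Fin 5) * X 4)) ∈ Ideal.span {X (0 : Fin 5) ^ (q - p) - X 1 * X 4 + X 2 * X 3} := by
  obtain ⟨a, ha, hfa⟩ := exists_decomp (wt5 p q m)
    ![Finsupp.single 0 (q - p), Finsupp.single 1 1 + Finsupp.single 3 1, Finsupp.single 1 1 + Finsupp.single 4 1,
      Finsupp.single 2 1 + Finsupp.single 3 1, Finsupp.single 2 1 + Finsupp.single 4 1] (fun _ => 0) _
    (fun j => by
      rw [zero_add, weight_wt5]
      fin_cases j <;> simp [Nat.cast_sub hpq.le] <;> ring)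
    hf fun d hd => by
      simp only [weight_wt5, Prod.mk.injEq] at hd
      by_cases h : (1 ≤ d 1 ∨ 1 ≤ d 2) ∧ (1 ≤ d 3 ∨ 1 ≤ d 4)
      · obtain ⟨h1, h2⟩ := h
        rcases h1 with h1 | h1 <;> rcases h2 with h2 | h2
        · refine ⟨1, fun j => ?_⟩; fin_cases j <;> simp [h1, h2]
        · refine ⟨2, fun j => ?_⟩; fin_cases j <;> simp [h1, h2]
        · refine ⟨3, fun j => ?_⟩; fin_cases j <;> simp [h1, h2]
        · refine ⟨4, fun j => ?_⟩; fin_cases j <;> simp [h1, h2]
      · refine ⟨0, fun j => ?_⟩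
        have hD : q - p ≤ d 0 := by
          rcases not_and_or.1 h with h' | h' <;> rw [not_or] at h'
          · have e : d 1 = 0 ∧ d 2 = 0 := by omega
            rw [e.1, e.2] at hd
            rcases Nat.eq_zero_or_pos (d 3 + d 4) with e2 | e2
            · have e3 : d 3 = 0 ∧ d 4 = 0 := by omega
              rw [e3.1, e3.2] at hd; omega
            · exfalso
              have := mul_le_mul_of_nonneg_left (show (1 : ℤ) ≤ (d 3 : ℤ) + d 4 by omega) (Int.natCast_nonneg q)
              omega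
          · have e : d 3 = 0 ∧ d 4 = 0 := by omega
            rw [e.1, e.2] at hd
            have : (0 : ℤ) ≤ p * ((d 1 : ℤ) + d 2) := by positivity
            omega
        fin_cases j <;> simp [hD]
  refine ⟨a 1, a 2 + a 0, a 3 - a 0, a 4, ha 1, Submodule.add_mem _ (ha 2) (ha 0),
    Submodule.sub_mem _ (ha 3) (ha 0), ha 4, ?_⟩
  refine Ideal.mem_span_singleton.2 ⟨a 0, ?_⟩
  rw [hfa, Fin.sum_univ_five]
  simp [monomial_single_add, ← X_pow_eq_monomial, -Finsupp.single_tsub]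
  ring

theorem generated_X1_X3 [CommRing k] {p q : ℕ} (m : ℕ) (hp : 0 < p) (hpq : p < q) {f : MvPolynomial (Fin 5) k} :
    (f ∈ weightedHomogeneousSubmodule k (wt5 p q m) (wt5 p q m 1) →
      ∃ a b : MvPolynomial (Fin 5) k, a ∈ weightedHomogeneousSubmodule k (wt5 p q m) 0 ∧
        b ∈ weightedHomogeneousSubmodule k (wt5 p q m) 0 ∧
        f - (a * X (1 : Fin 5) + b * X (2 : Fin 5)) ∈
          Ideal.span {X (0 : Fin 5) ^ (q - p) - X 1 * X 4 + X 2 * X 3}) ∧
    (f ∈ weightedHomogeneousSubmodule k (wt5 p q m) (wt5 p q m 3) →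
      ∃ a b : MvPolynomial (Fin 5) k, a ∈ weightedHomogeneousSubmodule k (wt5 p q m) 0 ∧
        b ∈ weightedHomogeneousSubmodule k (wt5 p q m) 0 ∧
        f - (a * X (3 : Fin 5) + b * X (4 : Fin 5)) ∈
          Ideal.span {X (0 : Fin 5) ^ (q - p) - X 1 * X 4 + X 2 * X 3}) := by
  refine ⟨fun hf => ?_, fun hf => ?_⟩
  · obtain ⟨a, ha, hfa⟩ := exists_decomp (wt5 p q m)
      ![Finsupp.single 1 1, Finsupp.single 2 1] (fun _ => 0) _
      (fun j => by
        rw [zero_add, weight_wt5]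
        fin_cases j <;> simp [wt5])
      hf fun d hd => by
        rw [weight_wt5] at hd
        simp only [wt5, Matrix.cons_val_one, Matrix.cons_val_zero, Prod.mk.injEq] at hd
        by_cases h : 1 ≤ d 1
        · refine ⟨0, fun j => ?_⟩; fin_cases j <;> simp [h]
        · refine ⟨1, fun j => ?_⟩
          have h2 : 1 ≤ d 2 := by
            by_contra h2
            have e : d 1 = 0 ∧ d 2 = 0 := by omega
            rw [e.1, e.2] at hd
            have : (0 : ℤ) ≤ q * ((d 3 : ℤ) + d 4) := by positivity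
            omega
          fin_cases j <;> simp [h2]
    refine ⟨a 0, a 1, ha 0, ha 1, ?_⟩
    rw [hfa, Fin.sum_univ_two]
    simp [← X_pow_eq_monomial, -Finsupp.single_tsub]
  · obtain ⟨a, ha, hfa⟩ := exists_decomp (wt5 p q m)
      ![Finsupp.single 0 (q - p), Finsupp.single 3 1, Finsupp.single 4 1]
      ![((p : ℤ), (1 : ZMod m)), 0, 0] _
      (fun j => by
        rw [weight_wt5]
        fin_cases j <;> simp [wt5, Nat.cast_sub hpq.le])
      hf fun d hd => by
        rw [weight_wt5] at hd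
        simp only [wt5, Matrix.cons_val, Prod.mk.injEq] at hd
        by_cases h : 1 ≤ d 3
        · refine ⟨1, fun j => ?_⟩; fin_cases j <;> simp [h]
        · by_cases h' : 1 ≤ d 4
          · refine ⟨2, fun j => ?_⟩; fin_cases j <;> simp [h']
          · refine ⟨0, fun j => ?_⟩
            have e : d 3 = 0 ∧ d 4 = 0 := by omega
            rw [e.1, e.2] at hd
            have : (0 : ℤ) ≤ p * ((d 1 : ℤ) + d 2) := by positivity
            have : q - p ≤ d 0 := by omega
            fin_cases j <;> simp [this]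
    have hX : ∀ t : Fin 5, t = 1 ∨ t = 2 →
        a 0 * X t ∈ weightedHomogeneousSubmodule k (wt5 p q m) 0 := fun t ht => by
      have h : IsWeightedHomogeneous (wt5 p q m) (a 0) ((p : ℤ), (1 : ZMod m)) := ha 0
      have := h.mul (isWeightedHomogeneous_X k (wt5 p q m) t)
      rwa [show ((p : ℤ), (1 : ZMod m)) + wt5 p q m t = 0 by rcases ht with rfl | rfl <;> simp [wt5]] at this
    refine ⟨a 1 - a 0 * X 2, a 2 + a 0 * X 1, Submodule.sub_mem _ (ha 1) (hX 2 (Or.inr rfl)),
      Submodule.add_mem _ (ha 2) (hX 1 (Or.inl rfl)), Ideal.mem_span_singleton.2 ⟨a 0, ?_⟩⟩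
    rw [hfa, Fin.sum_univ_three]
    simp [← X_pow_eq_monomial, -Finsupp.single_tsub]
    ring

theorem generated_n_i_three [CommRing k] {p q m : ℕ} {c : List ℤ} (S : Setup p q m c) {i : ℕ} (h1 : 1 ≤ i)
    (hi : i ≤ c.length) {f : MvPolynomial (Fin 3) k}
    (hf : f ∈ weightedHomogeneousSubmodule k (wt3 p q m) (nN p q m c i, (0 : ZMod m))) :
    ∃ a b : MvPolynomial (Fin 3) k, a ∈ weightedHomogeneousSubmodule k (wt3 p q m) 0 ∧
      b ∈ weightedHomogeneousSubmodule k (wt3 p q m) 0 ∧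
      f = a * X (0 : Fin 3) ^ (nN p q m c i).toNat +
        b * (X (1 : Fin 3) ^ (eE p q m c i).toNat * X (2 : Fin 3) ^ (lL p q m c i).toNat) := by
  have n0 := S.nN_pos hi
  have e0 := S.eE_pos h1 hi
  have l0 := S.lL_pos h1 hi
  obtain ⟨a, ha, hfa⟩ := exists_decomp (wt3 p q m)
    ![Finsupp.single 0 (nN p q m c i).toNat,
      Finsupp.single 1 (eE p q m c i).toNat + Finsupp.single 2 (lL p q m c i).toNat] (fun _ => 0) _
    (fun j => by
      rw [zero_add, weight_wt3]
      fin_cases j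
      · simp [Int.toNat_of_nonneg n0.le]
      · simp only [Finsupp.add_apply, Matrix.cons_val_one, Matrix.cons_val_zero, Fin.mk_one]
        simp [Int.toNat_of_nonneg e0.le, Int.toNat_of_nonneg l0.le]
        exact ⟨by simp only [nN]; ring, by rw [eE_eq]; simp⟩)
    hf fun d hd => by
      simp only [weight_wt3, Prod.mk.injEq] at hd
      obtain ⟨x, hx⟩ := (intCast_eq_iff ((d 2 : ℤ) - d 1) 0).1 (by rw [Int.cast_zero]; exact hd.2)
      rcases S.dvd_cases h1 hi (Int.natCast_nonneg (d 0)) (Int.natCast_nonneg (d 1)) (Int.natCast_nonneg (d 2))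
        hd.1 (x := x) (by linarith) with h | ⟨ha, hb⟩
      · refine ⟨0, fun j => ?_⟩
        fin_cases j <;> simp [h]
      · refine ⟨1, fun j => ?_⟩
        fin_cases j <;> simp [ha, hb]
  refine ⟨a 0, a 1, ha 0, ha 1, ?_⟩
  rw [hfa, Fin.sum_univ_two]
  simp [monomial_single_add, ← X_pow_eq_monomial, -Finsupp.single_tsub]

theorem monomial_four [CommRing k] (a b c d : ℕ) :
    (monomial (Finsupp.single 1 a + Finsupp.single 2 b + Finsupp.single 3 c + Finsupp.single 4 d) (1 : k) :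
      MvPolynomial (Fin 5) k) = X 1 ^ a * X 2 ^ b * X 3 ^ c * X 4 ^ d := by
  simp [X_pow_eq_monomial, monomial_mul]

theorem generated_n_i_five [CommRing k] {p q m : ℕ} {c : List ℤ} (S : Setup p q m c) {i : ℕ} (h1 : 1 ≤ i)
    (hi : i ≤ c.length) {f : MvPolynomial (Fin 5) k}
    (hf : f ∈ weightedHomogeneousSubmodule k (wt5 p q m) (nN p q m c i, (0 : ZMod m))) :
    ∃ (a₀ : MvPolynomial (Fin 5) k) (a : ℕ → ℕ → MvPolynomial (Fin 5) k),
      a₀ ∈ weightedHomogeneousSubmodule k (wt5 p q m) 0 ∧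
      (∀ e l : ℕ, a e l ∈ weightedHomogeneousSubmodule k (wt5 p q m) 0) ∧
      f - (a₀ * X (0 : Fin 5) ^ (nN p q m c i).toNat +
        ∑ e ∈ Finset.range ((eE p q m c i).toNat + 1), ∑ l ∈ Finset.range ((lL p q m c i).toNat + 1),
          a e l * (X (1 : Fin 5) ^ ((eE p q m c i).toNat - e) * X (2 : Fin 5) ^ e *
            X (3 : Fin 5) ^ ((lL p q m c i).toNat - l) * X (4 : Fin 5) ^ l)) ∈
        Ideal.span {X (0 : Fin 5) ^ (q - p) - X 1 * X 4 + X 2 * X 3} := by
  have n0 := S.nN_pos hi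
  have e0 := S.eE_pos h1 hi
  have l0 := S.lL_pos h1 hi
  set E := (eE p q m c i).toNat with hE
  set L := (lL p q m c i).toNat with hL
  let g : Option (Fin (E + 1) × Fin (L + 1)) → Fin 5 →₀ ℕ := fun j => j.elim
    (Finsupp.single 0 (nN p q m c i).toNat)
    fun el => Finsupp.single 1 (E - el.1) + Finsupp.single 2 (el.1 : ℕ) + Finsupp.single 3 (L - el.2) +
      Finsupp.single 4 (el.2 : ℕ)
  obtain ⟨a, ha, hfa⟩ := exists_decomp (wt5 p q m) g (fun _ => 0) _
    (fun j => by
      rw [zero_add, weight_wt5]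
      rcases j with _ | ⟨e, l⟩
      · simp [g, Int.toNat_of_nonneg n0.le]
      · have he : ((E - e : ℕ) : ℤ) + (e : ℕ) = eE p q m c i := by have := e.isLt; omega
        have hl : ((L - l : ℕ) : ℤ) + (l : ℕ) = lL p q m c i := by have := l.isLt; omega
        simp only [g, Option.elim_some, Finsupp.add_apply, Finsupp.single_apply, Fin.reduceEq, if_true, if_false,
          add_zero, zero_add, Nat.cast_zero]
        refine Prod.ext (by simp only [nN]; linear_combination -(p : ℤ) * he + (q : ℤ) * hl) ?_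
        show ((_ : ℤ) : ZMod m) = 0
        rw [← Int.cast_zero]
        refine (intCast_eq_iff _ _).2 ⟨-hjP c i, ?_⟩
        linear_combination hl - he - eE_eq p q m c i)
    hf fun d hd => by
      simp only [weight_wt5, Prod.mk.injEq] at hd
      obtain ⟨x, hx⟩ := (intCast_eq_iff ((d 3 : ℤ) + d 4 - d 1 - d 2) 0).1 (by rw [Int.cast_zero]; exact hd.2)
      rcases S.dvd_cases h1 hi (Int.natCast_nonneg (d 0))
        (show (0 : ℤ) ≤ (d 1 : ℤ) + d 2 by positivity) (show (0 : ℤ) ≤ (d 3 : ℤ) + d 4 by positivity)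
        hd.1 (x := x) (by linarith) with h | ⟨ha, hb⟩
      · refine ⟨none, fun j => ?_⟩
        fin_cases j <;> simp [g, h]
      · refine ⟨some (⟨min (d 2) E, by omega⟩, ⟨min (d 4) L, by omega⟩), fun j => ?_⟩
        fin_cases j <;> simp [g] <;> omega
  refine ⟨a none, fun e l => if h : e < E + 1 ∧ l < L + 1 then a (some (⟨e, h.1⟩, ⟨l, h.2⟩)) else 0, ha none,
    fun e l => ?_, ?_⟩
  · dsimp only
    split_ifs
    · exact ha _
    · exact zero_mem _
  · rw [Ideal.mem_span_singleton, hfa, Fintype.sum_option]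
    refine ⟨0, ?_⟩
    rw [mul_zero, sub_eq_zero, Fintype.sum_prod_type, ← Fin.sum_univ_eq_sum_range]
    congr 1
    · simp [g, ← X_pow_eq_monomial]
    · refine Finset.sum_congr rfl fun e _ => ?_
      rw [← Fin.sum_univ_eq_sum_range]
      refine Finset.sum_congr rfl fun l _ => ?_
      simp only [dif_pos (show (e : ℕ) < E + 1 ∧ (l : ℕ) < L + 1 from ⟨e.isLt, l.isLt⟩)]
      simp only [g, Option.elim_some, monomial_four]

end Groth.Agent.InvHilb
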