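import Groth.Prelude.Def_W4c2invhilbsl2HJ
import Groth.Agent.HJLib.Continuant
import Mathlib.Tactic.LinearCombination
import Mathlib.Tactic.Linarith

/-!
# The numbers attached to the Hirzebruch-Jung digits
-/

set_option autoImplicit false

namespace Groth.Agent.InvHilb

open W4c2invhilbsl2

/-- `t P i - b Q i`. -/
def NN (p q m : ℕ) (c : List ℤ) (i : ℕ) : ℤ := (tT p q m : ℤ) * hjP c i - (bB p q m : ℤ) * hjQ c i

/-- The hypotheses of the non-toric case. -/
structure Setup (p q m : ℕ) (c : List ℤ) : Prop where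
  hpq : p < q
  hcop : Nat.Coprime p q
  hm : 0 < m
  hnt : ¬(q - p ∣ m)
  hc : IsHJDigits p q m c

variable {p q m : ℕ} {c : List ℤ} (S : Setup p q m c)

include S

theorem Setup.g_pos : 0 < gcdK p q m := Nat.gcd_pos_of_pos_left _ S.hm

omit S in
theorem g_mul_b : gcdK p q m * bB p q m = q - p := Nat.mul_div_cancel' (Nat.gcd_dvd_right _ _)

omit S in
theorem g_dvd : gcdK p q m ∣ q - p - m * p % (q - p) :=
  Nat.dvd_sub (Nat.gcd_dvd_right _ _)
    ((Nat.dvd_mod_iff (Nat.gcd_dvd_right _ _)).2 (dvd_mul_of_dvd_left (Nat.gcd_dvd_left _ _) _))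

omit S in
theorem g_mul_t : gcdK p q m * tT p q m = q - p - m * p % (q - p) := Nat.mul_div_cancel' g_dvd

theorem Setup.mod_pos : 0 < m * p % (q - p) := by
  refine Nat.pos_of_ne_zero fun h => S.hnt ?_
  refine (Nat.Coprime.dvd_of_dvd_mul_right ?_ (Nat.dvd_of_mod_eq_zero h))
  rw [Nat.coprime_comm, Nat.coprime_sub_self_right S.hpq.le]
  exact S.hcop

theorem Setup.mod_lt : m * p % (q - p) < q - p := Nat.mod_lt _ (by have := S.hpq; omega)

theorem Setup.t_pos : 0 < tT p q m := by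
  refine Nat.pos_of_ne_zero fun h => ?_
  have := g_mul_t (p := p) (q := q) (m := m)
  rw [h, mul_zero] at this
  have := S.mod_lt
  omega

theorem Setup.t_lt_b : tT p q m < bB p q m := by
  refine Nat.lt_of_mul_lt_mul_left (a := gcdK p q m) ?_
  rw [g_mul_t (p := p) (q := q) (m := m), g_mul_b (p := p) (q := q) (m := m)]
  have := S.mod_pos
  have := S.mod_lt
  omega

theorem Setup.t_coprime_b : Nat.Coprime (tT p q m) (bB p q m) := by
  refine Nat.coprime_div_gcd_div_gcd (m := q - p - m * p % (q - p)) (n := q - p) ?_ |> fun h => ?_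
  rotate_left
  · exact Nat.gcd_pos_of_pos_right _ (by have := S.hpq; omega)
  have hg : Nat.gcd (q - p - m * p % (q - p)) (q - p) = gcdK p q m := by
    have hcop : Nat.Coprime p (q - p) := by
      rw [Nat.coprime_sub_self_right S.hpq.le]; exact S.hcop
    rw [Nat.gcd_self_sub_left S.mod_lt.le, ← Nat.gcd_rec, Nat.gcd_comm,
      Nat.Coprime.gcd_mul_right_cancel _ hcop]
    rfl
  rw [hg] at h
  exact h

theorem Setup.cast_D : ((q - p : ℕ) : ℤ) = (q : ℤ) - p := by have := S.hpq; omega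

theorem Setup.gt_eq : (gcdK p q m : ℤ) * tT p q m = (q : ℤ) - p - ((m * p : ℕ) : ℤ) + alpha p q m * ((q : ℤ) - p) := by
  have h1 := g_mul_t (p := p) (q := q) (m := m)
  have h2 := Nat.mod_add_div (m * p) (q - p)
  have h3 := S.mod_lt
  have h4 : ((gcdK p q m * tT p q m : ℕ) : ℤ) = ((q - p : ℕ) : ℤ) - ((m * p % (q - p) : ℕ) : ℤ) := by
    rw [h1]; omega
  have h5 : ((m * p % (q - p) : ℕ) : ℤ) + ((q - p : ℕ) : ℤ) * (alpha p q m : ℤ) = ((m * p : ℕ) : ℤ) := by
    exact_mod_cast h2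
  rw [S.cast_D] at h4 h5
  rw [Nat.cast_mul] at h4
  linear_combination h4 - h5

theorem Setup.gb_eq : (gcdK p q m : ℤ) * bB p q m = (q : ℤ) - p := by
  rw [← S.cast_D, ← g_mul_b (p := p) (q := q) (m := m), Nat.cast_mul]

theorem Setup.nN_eq (i : ℕ) : nN p q m c i = gcdK p q m * NN p q m c i := by
  have h := S.gt_eq
  have h' := S.gb_eq
  simp only [nN, eE, lL, NN]
  push_cast at h ⊢
  linear_combination -hjP c i * h + hjQ c i * h'

theorem Setup.cont_eq : HJLib.cont c = ((bB p q m : ℤ), (tT p q m : ℤ)) := by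
  obtain ⟨hge, hval⟩ := S.hc
  rw [HJLib.hjVal_eq c hge] at hval
  obtain ⟨h1, h2⟩ := HJLib.cont_pos c hge
  have ht : (0 : ℤ) < tT p q m := by exact_mod_cast S.t_pos
  have hb : (0 : ℚ) < bB p q m := by exact_mod_cast S.t_pos.trans S.t_lt_b
  have hpos : 0 < (HJLib.cont c).2 := by
    refine lt_of_le_of_ne h1 fun h => ?_
    rw [← h, Int.cast_zero, div_zero] at hval
    have : (0 : ℚ) < (bB p q m : ℚ) / tT p q m := div_pos hb (by exact_mod_cast S.t_pos)
    exact this.ne hval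
  have hcop' : Nat.Coprime (bB p q m : ℤ).natAbs (tT p q m : ℤ).natAbs := by simpa using S.t_coprime_b.symm
  have heq : ((HJLib.cont c).1 : ℚ) / ((HJLib.cont c).2 : ℚ) = ((bB p q m : ℤ) : ℚ) / ((tT p q m : ℤ) : ℚ) := by
    rw [Int.cast_natCast, Int.cast_natCast]; exact hval
  have := Rat.div_int_inj hpos ht (Int.isCoprime_iff_gcd_eq_one.1 (HJLib.cont_coprime c)) hcop' heq
  exact Prod.ext this.1 this.2

theorem Setup.drop_eq : ∀ i, i ≤ c.length → HJLib.cont (c.drop i) = (NN p q m c i, NN p q m c (i + 1))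
  | 0, _ => by simp [S.cont_eq, NN, hjP, hjQ]
  | i + 1, h => by
    have ih := Setup.drop_eq i (by omega)
    rw [List.drop_eq_getElem_cons (show i < c.length by omega)] at ih
    simp only [HJLib.cont, Prod.mk.injEq] at ih
    refine Prod.ext ih.2 ?_
    have e : c.getD i 0 = c[i] := by simp [List.getD_eq_getElem?_getD, show i < c.length by omega]
    simp only [NN, hjP, hjQ, e] at ih ⊢
    linear_combination (c[i]) * ih.2 - ih.1

theorem Setup.NN_props {i : ℕ} (h : i ≤ c.length) :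
    0 ≤ NN p q m c (i + 1) ∧ NN p q m c (i + 1) < NN p q m c i := by
  have := HJLib.cont_pos (c.drop i) fun x hx => S.hc.1 x (List.mem_of_mem_drop hx)
  rwa [S.drop_eq i h] at this

omit S in
theorem NN_zero : NN p q m c 0 = bB p q m := by simp [NN, hjP, hjQ]

theorem Setup.NN_last : NN p q m c c.length = 1 ∧ NN p q m c (c.length + 1) = 0 := by
  have h := S.drop_eq c.length le_rfl
  simp only [List.drop_length, HJLib.cont, Prod.mk.injEq] at h
  exact ⟨h.1.symm, h.2.symm⟩

theorem Setup.NN_le_b : ∀ i, i ≤ c.length + 1 → NN p q m c i ≤ bB p q m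
  | 0, _ => NN_zero.le
  | i + 1, h => (S.NN_props (show i ≤ c.length by omega)).2.le.trans (Setup.NN_le_b i (by omega))

theorem Setup.NN_pos {i : ℕ} (h : i ≤ c.length) : 0 < NN p q m c i :=
  lt_of_le_of_lt (S.NN_props h).1 (S.NN_props h).2

theorem Setup.NN_lt_b {i : ℕ} (h1 : 1 ≤ i) (h : i ≤ c.length + 1) : NN p q m c i < bB p q m := by
  obtain ⟨j, rfl⟩ : ∃ j, i = j + 1 := ⟨i - 1, by omega⟩
  exact (S.NN_props (show j ≤ c.length by omega)).2.trans_le (S.NN_le_b j (by omega))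

theorem Setup.P_props : ∀ i, i ≤ c.length → 0 ≤ hjP c i ∧ hjP c i < hjP c (i + 1)
  | 0, _ => by simp [hjP]
  | i + 1, h => by
    obtain ⟨h1, h2⟩ := Setup.P_props i (by omega)
    have hd : 2 ≤ c.getD i 0 := by
      rw [List.getD_eq_getElem?_getD, List.getElem?_eq_getElem (show i < c.length by omega), Option.getD_some]
      exact S.hc.1 _ (List.getElem_mem _)
    simp only [hjP]
    constructor <;> nlinarith

theorem Setup.P_pos {i : ℕ} (h1 : 1 ≤ i) (h : i ≤ c.length + 1) : 0 < hjP c i := by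
  obtain ⟨j, rfl⟩ : ∃ j, i = j + 1 := ⟨i - 1, by omega⟩
  obtain ⟨a, b⟩ := S.P_props j (by omega)
  omega

omit S in
theorem hjP_mul_hjQ (c : List ℤ) : ∀ i, hjP c (i + 1) * hjQ c i - hjP c i * hjQ c (i + 1) = -1
  | 0 => by simp [hjP, hjQ]
  | i + 1 => by simp only [hjP, hjQ]; linear_combination hjP_mul_hjQ c i

/-- Below `P i`, the values `t x - b y` are not in `[0, N (i - 1))`. -/
theorem Setup.NN_le {i : ℕ} (h1 : 1 ≤ i) (hi : i ≤ c.length) {x : ℤ} (y : ℤ) (hx0 : 0 < x) (hx : x < hjP c i)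
    (hR : 0 ≤ (tT p q m : ℤ) * x - bB p q m * y) :
    NN p q m c (i - 1) ≤ (tT p q m : ℤ) * x - bB p q m * y := by
  obtain ⟨j, rfl⟩ : ∃ j, i = j + 1 := ⟨i - 1, by omega⟩
  simp only [Nat.add_sub_cancel]
  obtain ⟨P0, P1⟩ := S.P_props j (by omega)
  obtain ⟨N1, N10⟩ := S.NN_props (show j ≤ c.length by omega)
  have det := hjP_mul_hjQ c j
  have ha : x = (x * hjQ c (j + 1) - y * hjP c (j + 1)) * hjP c j + (y * hjP c j - x * hjQ c j) * hjP c (j + 1) := by
    linear_combination x * det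
  have hb : (tT p q m : ℤ) * x - bB p q m * y =
      (x * hjQ c (j + 1) - y * hjP c (j + 1)) * NN p q m c j +
        (y * hjP c j - x * hjQ c j) * NN p q m c (j + 1) := by
    simp only [NN]
    linear_combination ((tT p q m : ℤ) * x - bB p q m * y) * det
  generalize x * hjQ c (j + 1) - y * hjP c (j + 1) = a at ha hb
  generalize y * hjP c j - x * hjQ c j = b at ha hb
  rw [hb] at hR ⊢
  rcases le_or_gt a 0 with ha0 | ha0
  · exfalso
    have hb1 : 1 ≤ b := by nlinarith
    have hab : b ≤ -a := by nlinarith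
    nlinarith
  · have hb0 : b ≤ 0 := by nlinarith
    rcases hb0.lt_or_eq with hb0 | rfl
    · have hab : 1 - b ≤ a := by nlinarith
      nlinarith
    · nlinarith

theorem Setup.le_NN {i : ℕ} (h1 : 1 ≤ i) (hi : i ≤ c.length) {x : ℤ} (y : ℤ) (hx0 : 0 < x) (hx : x < hjP c i)
    (hR : (tT p q m : ℤ) * x - bB p q m * y < bB p q m) :
    (tT p q m : ℤ) * x - bB p q m * y ≤ bB p q m + NN p q m c i - NN p q m c (i - 1) := by
  have hN : 0 < NN p q m c i := S.NN_pos hi
  have e : (tT p q m : ℤ) * (hjP c i - x) - bB p q m * (hjQ c i - y - 1) =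
      NN p q m c i + bB p q m - ((tT p q m : ℤ) * x - bB p q m * y) := by
    simp only [NN]; ring
  have h := S.NN_le h1 hi (hjQ c i - y - 1) (show (0 : ℤ) < hjP c i - x by omega) (by omega)
    (by rw [e]; omega)
  rw [e] at h
  omega

theorem Setup.nN_le_D {i : ℕ} (h : i ≤ c.length + 1) : nN p q m c i ≤ (q : ℤ) - p := by
  rw [S.nN_eq, ← S.gb_eq]
  exact mul_le_mul_of_nonneg_left (S.NN_le_b i h) (Int.natCast_nonneg _)

theorem Setup.nN_pos {i : ℕ} (h : i ≤ c.length) : 0 < nN p q m c i := by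
  rw [S.nN_eq]
  exact mul_pos (Int.natCast_pos.2 S.g_pos) (S.NN_pos h)

theorem Setup.nN_lt {i : ℕ} (h : i ≤ c.length) : nN p q m c (i + 1) < nN p q m c i := by
  rw [S.nN_eq, S.nN_eq]
  exact mul_lt_mul_of_pos_left (S.NN_props h).2 (Int.natCast_pos.2 S.g_pos)

omit S in
theorem eE_eq (p q m : ℕ) (c : List ℤ) (i : ℕ) : eE p q m c i = lL p q m c i + m * hjP c i := by
  simp only [eE, lL]; push_cast; ring

omit S in
theorem D_mul_lL (p q m : ℕ) (c : List ℤ) (i : ℕ) :
    ((q : ℤ) - p) * lL p q m c i = nN p q m c i + p * m * hjP c i := by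
  simp only [nN, eE, lL]; push_cast; ring

theorem Setup.lL_pos {i : ℕ} (h1 : 1 ≤ i) (h : i ≤ c.length) : 0 < lL p q m c i := by
  have hD := D_mul_lL p q m c i
  have := S.nN_pos h
  have := S.P_pos h1 (by omega)
  have : (0 : ℤ) ≤ p * m := by positivity
  have : (0 : ℤ) < (q : ℤ) - p := by have := S.hpq; omega
  nlinarith

theorem Setup.eE_pos {i : ℕ} (h1 : 1 ≤ i) (h : i ≤ c.length) : 0 < eE p q m c i := by
  have := S.lL_pos h1 h
  have := S.P_pos h1 (by omega)
  rw [eE_eq]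
  positivity

/-- If `0 ≤ D u - p m x < n (i - 1)` with `x > 0`, then `x ≥ P i`, `u ≥ l i`, `u + m x ≥ e i`. -/
theorem Setup.key {i : ℕ} (h1 : 1 ≤ i) (hi : i ≤ c.length) {x u : ℤ} (hx : 0 < x)
    (h0 : 0 ≤ ((q : ℤ) - p) * u - p * m * x) (hlt : ((q : ℤ) - p) * u - p * m * x < nN p q m c (i - 1)) :
    hjP c i ≤ x ∧ lL p q m c i ≤ u ∧ eE p q m c i ≤ u + m * x := by
  have hg : (0 : ℤ) < gcdK p q m := Int.natCast_pos.2 S.g_pos
  have e : ((q : ℤ) - p) * u - p * m * x =
      (gcdK p q m : ℤ) * ((tT p q m : ℤ) * x - bB p q m * ((alpha p q m + 1) * x - u)) := by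
    have h := S.gt_eq
    have h' := S.gb_eq
    push_cast at h
    linear_combination -x * h + ((alpha p q m + 1) * x - u) * h'
  rw [S.nN_eq] at hlt
  have hP : hjP c i ≤ x := by
    by_contra hlt'
    rw [e] at h0 hlt
    have h2 := S.NN_le h1 hi ((alpha p q m + 1) * x - u) hx (not_le.1 hlt') (nonneg_of_mul_nonneg_right h0 hg)
    exact absurd (mul_le_mul_of_nonneg_left h2 hg.le) (not_le.2 hlt)
  have hl : lL p q m c i ≤ u := by
    have hn : nN p q m c i < (q : ℤ) - p := by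
      have h3 := S.nN_lt (show i - 1 ≤ c.length by omega)
      rw [Nat.sub_add_cancel h1] at h3
      exact h3.trans_le (S.nN_le_D (by omega))
    have := D_mul_lL p q m c i
    have hpm : (0 : ℤ) ≤ p * m := by positivity
    have := mul_le_mul_of_nonneg_left hP hpm
    by_contra hu
    have hD : (0 : ℤ) ≤ (q : ℤ) - p := by have := S.hpq; omega
    have := mul_le_mul_of_nonneg_left (show u ≤ lL p q m c i - 1 by omega) hD
    nlinarith
  refine ⟨hP, hl, ?_⟩
  rw [eE_eq]
  nlinarith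

end Groth.Agent.InvHilb
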